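import Groth.Agent.Lib.ModToAb24.Coind
import Groth.Prelude.Def_SixF2

/-!
# Cohomology of sheaves of modules and of the underlying abelian sheaves
-/

universe u

set_option maxHeartbeats 1600000
set_option backward.isDefEq.respectTransparency false
set_option backward.isDefEq.respectTransparency.types false

open CategoryTheory CategoryTheory.Limits AlgebraicGeometry Opposite CategoryTheory.Abelian

namespace Groth.Agent.ModToAb24

variable (Λ : Type (u + 1)) [CommRing Λ]

/-- The coinduced module `Hom(Λ, A)`. -/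
def CoInd (A : AddCommGrpCat.{u + 1}) : Type (u + 1) := Λ →+ A

noncomputable instance (A : AddCommGrpCat.{u + 1}) : AddCommGroup (CoInd Λ A) :=
  inferInstanceAs (AddCommGroup (Λ →+ A))

/-- The underlying homomorphism. -/
abbrev toHom {A : AddCommGrpCat.{u + 1}} (f : CoInd Λ A) : Λ →+ A := f

noncomputable instance (A : AddCommGrpCat.{u + 1}) : Module Λ (CoInd Λ A) where
  smul r f := (AddMonoidHom.comp (f : Λ →+ A) (AddMonoidHom.mulRight r) : Λ →+ A)
  one_smul f := AddMonoidHom.ext fun x => congrArg (⇑(toHom Λ f)) (mul_one x)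
  mul_smul r s f := AddMonoidHom.ext fun x => congrArg (⇑(toHom Λ f)) (mul_assoc x r s).symm
  smul_zero r := rfl
  smul_add r f g := rfl
  add_smul r s f := AddMonoidHom.ext fun x =>
    (congrArg (⇑(toHom Λ f)) (mul_add x r s)).trans (map_add (toHom Λ f) _ _)
  zero_smul f := AddMonoidHom.ext fun x =>
    (congrArg (⇑(toHom Λ f)) (mul_zero x)).trans (map_zero (toHom Λ f))

/-- Coinduction. -/
noncomputable def coInd : AddCommGrpCat.{u + 1} ⥤ ModuleCat.{u + 1} Λ where
  obj A := ModuleCat.of Λ (CoInd Λ A)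
  map {A B} g := ModuleCat.ofHom
    { toFun := fun f => (g.hom.comp (f : Λ →+ A) : Λ →+ B)
      map_add' := fun f f' => AddMonoidHom.ext fun x => map_add g.hom _ _
      map_smul' := fun r f => rfl }

/-- The unit of coinduction. -/
noncomputable def coIndUnit (M : ModuleCat.{u + 1} Λ) :
    M ⟶ (coInd Λ).obj ((forget₂ (ModuleCat.{u + 1} Λ) AddCommGrpCat.{u + 1}).obj M) :=
  ModuleCat.ofHom
    { toFun := fun m => (smulAddHom Λ M).flip m
      map_add' := fun m m' => map_add _ m m'
      map_smul' := fun r m => AddMonoidHom.ext fun x => smul_smul x r m }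

/-- Coinduction is right adjoint to forgetting. -/
noncomputable def coIndAdj : forget₂ (ModuleCat.{u + 1} Λ) AddCommGrpCat.{u + 1} ⊣ coInd Λ :=
  Adjunction.mkOfHomEquiv
    { homEquiv := fun M A =>
        { toFun := fun f => coIndUnit Λ M ≫ (coInd Λ).map f
          invFun := fun g => AddCommGrpCat.ofHom
            { toFun := fun m => (show Λ →+ A from g.hom m) 1
              map_zero' := by rw [map_zero]; rfl
              map_add' := fun m m' => by rw [map_add]; rfl }
          left_inv := fun f => AddCommGrpCat.hom_ext (AddMonoidHom.ext fun m => congrArg f.hom (one_smul Λ m))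
          right_inv := fun g => ModuleCat.hom_ext (LinearMap.ext fun m => AddMonoidHom.ext fun x => by
            show (show Λ →+ A from g.hom (x • m)) 1 = (show Λ →+ A from g.hom m) x
            rw [map_smul]
            exact congrArg (⇑(show Λ →+ A from g.hom m)) (one_mul x)) }
      homEquiv_naturality_left_symm := fun f g => rfl
      homEquiv_naturality_right := fun f g => rfl }

instance : (coInd Λ).IsRightAdjoint := (coIndAdj Λ).isRightAdjoint

/-- Coinduction is the functor of homomorphisms. -/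
noncomputable def coIndForgetIso :
    coInd Λ ⋙ forget₂ (ModuleCat.{u + 1} Λ) AddCommGrpCat.{u + 1} ≅
      preadditiveCoyoneda.obj (op (AddCommGrpCat.of Λ)) :=
  NatIso.ofComponents (fun A => AddEquiv.toAddCommGrpIso (X := AddCommGrpCat.of (CoInd Λ A))
    (Y := AddCommGrpCat.of (AddCommGrpCat.of Λ ⟶ A))
    { toFun := fun f => AddCommGrpCat.ofHom (f : Λ →+ A)
      invFun := fun f => (f.hom : Λ →+ A)
      left_inv := fun f => rfl
      right_inv := fun f => rfl
      map_add' := fun f g => rfl }) (fun g => rfl)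

variable {Λ} {X : Scheme.{u}}

/-- An injective sheaf of modules is acyclic as an abelian sheaf. -/
theorem subsingleton_H_forget [(EtModD.forgetToAb Λ X).Additive] (J : EtModW.Mod Λ X) [Injective J] (q : ℕ) :
    Subsingleton (EtCoh.H X ((EtModD.forgetToAb Λ X).obj J) (q + 1)) := by
  haveI : PreservesLimitsOfSize.{u, u + 1} (coInd Λ) := (coIndAdj Λ).rightAdjoint_preservesLimits
  haveI : PreservesLimitsOfSize.{u + 1, u + 1} (coInd Λ) := (coIndAdj Λ).rightAdjoint_preservesLimits
  let I := Injective.under ((EtModD.forgetToAb Λ X).obj J)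
  let R : EtModW.Mod Λ X := (sheafCompose X.smallEtaleTopology (coInd Λ)).obj I
  let η : J ⟶ R := ⟨{
    app := fun U => coIndUnit Λ (J.obj.obj U) ≫
      (coInd Λ).map ((Injective.ι ((EtModD.forgetToAb Λ X).obj J)).hom.app U)
    naturality := fun U V r => ModuleCat.hom_ext (LinearMap.ext fun m => AddMonoidHom.ext fun x => by
      show (Injective.ι ((EtModD.forgetToAb Λ X).obj J)).hom.app V (x • (J.obj.map r).hom m) =
        I.obj.map r ((Injective.ι ((EtModD.forgetToAb Λ X).obj J)).hom.app U (x • m))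
      rw [← map_smul]
      exact NatTrans.naturality_apply (Injective.ι ((EtModD.forgetToAb Λ X).obj J)).hom r (x • m)) }⟩
  haveI : Mono η := by
    refine (sheafToPresheaf _ _).mono_of_mono_map ?_
    refine (NatTrans.mono_iff_mono_app _).2 fun U => (ModuleCat.mono_iff_injective _).2 fun m m' h => ?_
    have hinj := (EtStalk.mono_iff_app_injective (Injective.ι ((EtModD.forgetToAb Λ X).obj J))).1 inferInstance U
    have h1 : (Injective.ι ((EtModD.forgetToAb Λ X).obj J)).hom.app U ((1 : Λ) • m) =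
        (Injective.ι ((EtModD.forgetToAb Λ X).obj J)).hom.app U ((1 : Λ) • m') :=
      congrArg (fun f : Λ →+ I.obj.obj U => f 1) h
    simpa only [one_smul] using hinj h1
  let r : R ⟶ J := Injective.factorThru (𝟙 J) η
  have hr : η ≫ r = 𝟙 J := Injective.comp_factorThru _ _
  let e : (EtModD.forgetToAb Λ X).obj R ≅ (homSh (AddCommGrpCat.of Λ)).obj I :=
    (sheafToPresheaf _ _).preimageIso (Functor.associator _ _ _ ≪≫ Functor.isoWhiskerLeft I.obj (coIndForgetIso Λ))
  haveI := subsingleton_H_homSh I q (AddCommGrpCat.of Λ)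
  refine subsingleton_of_forall_eq 0 fun z => ?_
  have h2 : z.comp (Ext.mk₀ ((EtModD.forgetToAb Λ X).map η ≫ e.hom)) (add_zero _) = 0 :=
    Subsingleton.elim (α := EtCoh.H X ((homSh (AddCommGrpCat.of Λ)).obj I) (q + 1)) _ _
  have h3 : ((EtModD.forgetToAb Λ X).map η ≫ e.hom) ≫ e.inv ≫ (EtModD.forgetToAb Λ X).map r = 𝟙 _ := by
    rw [Category.assoc, e.hom_inv_id_assoc, ← Functor.map_comp, hr, CategoryTheory.Functor.map_id]
  have := congrArg (fun w => Ext.comp w (Ext.mk₀ (e.inv ≫ (EtModD.forgetToAb Λ X).map r)) (add_zero _)) h2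
  simp only [Ext.comp_assoc_of_second_deg_zero, Ext.mk₀_comp_mk₀, h3, Ext.zero_comp] at this
  exact (Ext.comp_mk₀_id z).symm.trans this

section Compare

variable [PreservesFiniteLimits (EtModD.forgetToAb Λ X)] [PreservesFiniteColimits (EtModD.forgetToAb Λ X)]
  [(EtModD.forgetToAb Λ X).Additive]

theorem HModToH_eq (F : EtModW.Mod Λ X) (n : ℕ) (e : EtSix.HMod Λ X F n) :
    EtSix.HModToH Λ F n e =
      (Ext.mk₀ (EtSix.intToConstΛ Λ X)).comp (e.mapExactFunctor (EtModD.forgetToAb Λ X)) (zero_add n) := rfl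

theorem HModToH_comp {F G : EtModW.Mod Λ X} {a b c : ℕ} (x : EtSix.HMod Λ X F a) (y : Ext F G b) (h : a + b = c) :
    EtSix.HModToH Λ G c (x.comp y h) =
      (EtSix.HModToH Λ F a x).comp (y.mapExactFunctor (EtModD.forgetToAb Λ X)) h := by
  rw [HModToH_eq, HModToH_eq, Ext.mapExactFunctor_comp, Ext.comp_assoc _ _ _ (zero_add a) h (by omega)]

theorem bijective_zero (F : EtModW.Mod Λ X) : Function.Bijective (EtSix.HModToH Λ F 0) := by
  let eM := (EtSix.constModAdj Λ X).homEquiv (ModuleCat.of Λ Λ) F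
  let eZ := (EtCore.constAdj X).homEquiv (AddCommGrpCat.of (ULift.{u + 1} ℤ)) ((EtModD.forgetToAb Λ X).obj F)
  have key : ∀ φ, eZ (EtSix.intToConstΛ Λ X ≫ (EtModD.forgetToAb Λ X).map φ) =
      AddCommGrpCat.ofHom ((zmultiplesHom _ ((eM φ).hom (1 : Λ))).comp (AddEquiv.ulift (α := ℤ)).toAddMonoidHom) := by
    intro φ
    rw [Adjunction.homEquiv_naturality_right, EtSix.intToConstΛ, Equiv.apply_symm_apply]
    refine AddCommGrpCat.hom_ext (AddMonoidHom.ext fun n => ?_)
    show φ.hom.app (op (EtCoh.top X))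
        (n.down • (((EtSix.constModAdj Λ X).unit.app (ModuleCat.of Λ Λ)).hom (1 : Λ))) =
      n.down • (eM φ).hom (1 : Λ)
    rw [Adjunction.homEquiv_unit, map_zsmul]
    rfl
  have h0 : ∀ φ, EtSix.HModToH Λ F 0 (Ext.mk₀ φ) =
      Ext.mk₀ (EtSix.intToConstΛ Λ X ≫ (EtModD.forgetToAb Λ X).map φ) := fun φ => by
    rw [HModToH_eq, Ext.mapExactFunctor_mk₀, Ext.mk₀_comp_mk₀]
  refine ⟨fun x y hxy => ?_, fun z => ?_⟩
  · obtain ⟨φ, rfl⟩ := (Ext.mk₀_bijective _ _).2 x
    obtain ⟨ψ, rfl⟩ := (Ext.mk₀_bijective _ _).2 y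
    rw [h0, h0] at hxy
    have h1 := congrArg (fun q => q.hom (ULift.up (1 : ℤ)))
      ((key φ).symm.trans ((congrArg eZ ((Ext.mk₀_bijective _ _).1 hxy)).trans (key ψ)))
    simp only [AddCommGrpCat.hom_ofHom, AddMonoidHom.comp_apply, zmultiplesHom_apply] at h1
    refine congrArg Ext.mk₀ (eM.injective (ModuleCat.hom_ext (LinearMap.ext_ring ?_)))
    exact (one_zsmul _).symm.trans (h1.trans (one_zsmul _))
  · obtain ⟨ψ, rfl⟩ := (Ext.mk₀_bijective _ _).2 z
    let v : (EtSix.gsecMod Λ X).obj F := (eZ ψ).hom (ULift.up (1 : ℤ))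
    let φ := eM.symm (ModuleCat.ofHom (LinearMap.toSpanSingleton Λ _ v))
    refine ⟨Ext.mk₀ φ, (h0 φ).trans (congrArg Ext.mk₀ (eZ.injective ((key φ).trans ?_)))⟩
    refine AddCommGrpCat.hom_ext (AddMonoidHom.ext fun n => ?_)
    show n.down • (eM φ).hom (1 : Λ) = (eZ ψ).hom n
    rw [Equiv.apply_symm_apply]
    show n.down • ((1 : Λ) • v) = _
    rw [one_smul]
    refine (map_zsmul (eZ ψ).hom n.down (ULift.up 1)).symm.trans ?_
    exact congrArg (eZ ψ).hom (ULift.ext _ _ (mul_one n.down))

theorem bijective_HModToH [EnoughInjectives (EtModW.Mod Λ X)] :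
    ∀ (n : ℕ) (F : EtModW.Mod Λ X), Function.Bijective (EtSix.HModToH Λ F n) := by
  intro n
  induction n with
  | zero => exact bijective_zero
  | succ n ih =>
    intro F
    let S : ShortComplex (EtModW.Mod Λ X) :=
      ShortComplex.mk (Injective.ι F) (cokernel.π (Injective.ι F)) (cokernel.condition _)
    have hS : S.ShortExact := { exact := ShortComplex.exact_cokernel _ }
    haveI : Injective S.X₂ := inferInstanceAs (Injective (Injective.under F))
    have hS' := hS.map_of_exact (EtModD.forgetToAb Λ X)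
    haveI := subsingleton_H_forget S.X₂ n
    refine ⟨(injective_iff_map_eq_zero _).2 fun z hz => ?_, fun z => ?_⟩
    · obtain ⟨x, rfl⟩ := Ext.covariant_sequence_exact₁ _ hS z (Ext.eq_zero_of_injective _) (n₀ := n) rfl
      rw [HModToH_comp, Ext.mapExactFunctor_extClass] at hz
      obtain ⟨w, hw⟩ := Ext.covariant_sequence_exact₃ _ hS' (EtSix.HModToH Λ S.X₃ n x) rfl hz
      obtain ⟨v, rfl⟩ := (ih S.X₂).2 w
      have hx : x = v.comp (Ext.mk₀ S.g) (add_zero n) := (ih S.X₃).1 (by
        rw [HModToH_comp, Ext.mapExactFunctor_mk₀]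
        exact hw.symm)
      rw [hx, Ext.comp_assoc_of_second_deg_zero, hS.comp_extClass, Ext.comp_zero]
    · obtain ⟨y, rfl⟩ := Ext.covariant_sequence_exact₁ _ hS' z
        (Subsingleton.elim (α := EtCoh.H X ((EtModD.forgetToAb Λ X).obj S.X₂) (n + 1)) _ _) (n₀ := n) rfl
      obtain ⟨x, rfl⟩ := (ih S.X₃).2 y
      exact ⟨x.comp hS.extClass rfl, by rw [HModToH_comp, Ext.mapExactFunctor_extClass]⟩

end Compare

end Groth.Agent.ModToAb24
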