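import Groth.Agent.Lib.EtStalk.ExtZero
import Groth.Agent.Lib.EtStalk.JCont
import Groth.Prelude.Def_EtCore
import Groth.Prelude.Def_EtModD2
import Mathlib.Algebra.Category.Grp.EnoughInjectives
import Mathlib.CategoryTheory.Preadditive.Yoneda.Limits
import Mathlib.Algebra.Homology.DerivedCategory.Ext.ExactSequences
import Mathlib.Algebra.Homology.DerivedCategory.Ext.EnoughInjectives

/-!
# Sheaves of homomorphisms into an injective sheaf are acyclic
-/

universe u

set_option maxHeartbeats 800000
set_option backward.isDefEq.respectTransparency false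
set_option backward.isDefEq.respectTransparency.types false

open CategoryTheory CategoryTheory.Limits AlgebraicGeometry Opposite CategoryTheory.Abelian

namespace Groth.Agent.ModToAb24

variable {X : Scheme.{u}}

/-- The sheaf `U ↦ Hom(A, F(U))`. -/
noncomputable abbrev homSh (A : AddCommGrpCat.{u + 1}) : EtCoh.Ab X ⥤ EtCoh.Ab X :=
  sheafCompose X.smallEtaleTopology (preadditiveCoyoneda.obj (op A))

/-- Contravariance in the group. -/
noncomputable def homShMap {A B : AddCommGrpCat.{u + 1}} (π : A ⟶ B) (F : EtCoh.Ab X) :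
    (homSh B).obj F ⟶ (homSh A).obj F :=
  ⟨Functor.whiskerLeft F.obj (preadditiveCoyoneda.map π.op)⟩

/-- Sections of an injective sheaf form an injective group. -/
theorem injective_sections (I : EtCoh.Ab X) [Injective I] (U : X.Etale) : Injective (I.obj.obj (op U)) := by
  haveI : Etale U.hom := U.prop
  haveI := EtStalk.injective_restrAlong U.hom I
  haveI : PreservesFiniteLimits
      (constantSheaf U.left.smallEtaleTopology AddCommGrpCat.{u + 1}) := comp_preservesFiniteLimits _ _
  haveI : (constantSheaf U.left.smallEtaleTopology AddCommGrpCat.{u + 1}).PreservesMonomorphisms := inferInstance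
  have h := Injective.injective_of_adjoint (EtCore.constAdj U.left) ((EtShriek.restrAlong U.hom).obj I)
  exact Injective.of_iso (I.obj.mapIso (MorphismProperty.Over.isoMk (Iso.refl _)
        (by exact (Category.id_comp _).trans (Category.id_comp U.hom).symm) :
          U ≅ (EtShriek.compEtale U.hom).obj (EtCoh.top U.left)).op) h

/-- The free group on the elements of a group. -/
noncomputable abbrev cover (A : AddCommGrpCat.{u + 1}) : AddCommGrpCat.{u + 1} :=
  AddCommGrpCat.of ((A : Type (u + 1)) →₀ ℤ)

/-- The augmentation. -/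
noncomputable def coverπ (A : AddCommGrpCat.{u + 1}) : cover A ⟶ A :=
  AddCommGrpCat.ofHom (Finsupp.liftAddHom fun a => zmultiplesHom A a)

theorem coverπ_single (A : AddCommGrpCat.{u + 1}) (a : A) : coverπ A (Finsupp.single a 1) = a := by
  simp [coverπ]

instance (A : AddCommGrpCat.{u + 1}) : Epi (coverπ A) :=
  (AddCommGrpCat.epi_iff_surjective _).2 fun a => ⟨_, coverπ_single A a⟩

variable (I : EtCoh.Ab X)

/-- Evaluation at a basis vector. -/
noncomputable def evBasis (ι : Type (u + 1)) (b : ι) :
    (homSh (AddCommGrpCat.of (ι →₀ ℤ))).obj I ⟶ I :=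
  ⟨{ app := fun U => AddCommGrpCat.ofHom
      { toFun := fun f => f.hom (Finsupp.single b 1)
        map_zero' := rfl
        map_add' := fun _ _ => rfl }
     naturality := fun _ _ _ => rfl }⟩

theorem injective_homSh_free [Injective I] (ι : Type (u + 1)) :
    Injective ((homSh (AddCommGrpCat.of (ι →₀ ℤ))).obj I) := by
  refine ⟨fun {G G'} φ a _ => ?_⟩
  let ψ : ∀ b : ι, G' ⟶ I := fun b => Injective.factorThru (φ ≫ evBasis I ι b) a
  have hψ : ∀ b, a ≫ ψ b = φ ≫ evBasis I ι b := fun b => Injective.comp_factorThru _ _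
  refine ⟨⟨{
    app := fun U => AddCommGrpCat.ofHom
      { toFun := fun x => AddCommGrpCat.ofHom (Finsupp.liftAddHom fun b => zmultiplesHom _ ((ψ b).hom.app U x))
        map_zero' := ?_
        map_add' := ?_ }
    naturality := ?_ }⟩, ?_⟩
  · refine AddCommGrpCat.hom_ext (Finsupp.addHom_ext fun b n => ?_)
    simp
  · intro x y
    refine AddCommGrpCat.hom_ext (Finsupp.addHom_ext fun b n => ?_)
    show Finsupp.liftAddHom (fun b => zmultiplesHom _ ((ψ b).hom.app U (x + y))) (Finsupp.single b n) =
      Finsupp.liftAddHom (fun b => zmultiplesHom _ ((ψ b).hom.app U x)) (Finsupp.single b n) +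
        Finsupp.liftAddHom (fun b => zmultiplesHom _ ((ψ b).hom.app U y)) (Finsupp.single b n)
    simp only [Finsupp.liftAddHom_apply_single, zmultiplesHom_apply, map_add, smul_add]
  · intro U V r
    refine AddCommGrpCat.hom_ext (AddMonoidHom.ext fun x => AddCommGrpCat.hom_ext (Finsupp.addHom_ext fun b n => ?_))
    show Finsupp.liftAddHom (fun b => zmultiplesHom _ ((ψ b).hom.app V (G'.obj.map r x))) (Finsupp.single b n) =
      I.obj.map r (Finsupp.liftAddHom (fun b => zmultiplesHom _ ((ψ b).hom.app U x)) (Finsupp.single b n))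
    simp only [Finsupp.liftAddHom_apply_single, zmultiplesHom_apply, map_zsmul]
    exact congrArg (n • ·) (NatTrans.naturality_apply (ψ b).hom r x)
  · ext U x
    refine AddCommGrpCat.hom_ext (Finsupp.addHom_ext fun b n => ?_)
    show Finsupp.liftAddHom (fun b => zmultiplesHom _ ((ψ b).hom.app U (a.hom.app U x))) (Finsupp.single b n) =
      (φ.hom.app U x).hom (Finsupp.single b n)
    rw [Finsupp.liftAddHom_apply_single, zmultiplesHom_apply,
      show Finsupp.single b n = n • Finsupp.single b (1 : ℤ) by simp [Finsupp.smul_single], map_zsmul]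
    exact congrArg (fun q => n • q.hom.app U x) (hψ b)

/-- The presentation of a group. -/
noncomputable abbrev seq (A : AddCommGrpCat.{u + 1}) : ShortComplex (EtCoh.Ab X) :=
  ShortComplex.mk (homShMap (coverπ A) I) (homShMap (kernel.ι (coverπ A)) I) (by
    ext U x
    refine AddCommGrpCat.hom_ext (AddMonoidHom.ext fun k => ?_)
    show x.hom (coverπ A (kernel.ι (coverπ A) k)) = 0
    exact (congrArg x.hom (ConcreteCategory.congr_hom (kernel.condition (coverπ A)) k)).trans (map_zero x.hom))

theorem surjective_res [Injective I] (A : AddCommGrpCat.{u + 1}) (U : X.Etale) :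
    Function.Surjective ((seq I A).g.hom.app (op U)) := fun k => by
  obtain ⟨f, hf⟩ := (injective_sections I U).factors (X := kernel (coverπ A)) (Y := cover A) k (kernel.ι (coverπ A))
  exact ⟨f, hf⟩

theorem shortExact_seq [Injective I] (A : AddCommGrpCat.{u + 1}) : (seq I A).ShortExact := by
  haveI : Mono (seq I A).f := (EtStalk.mono_iff_app_injective _).2 fun U x y h => by
    exact (cancel_epi (coverπ A)).1 h
  haveI : Epi (seq I A).g := by
    rw [← Sheaf.isLocallySurjective_iff_epi']
    refine ⟨fun {U} s => ?_⟩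
    obtain ⟨t, ht⟩ := surjective_res I A U s
    refine GrothendieckTopology.superset_covering _ (fun V g _ => ?_) (GrothendieckTopology.top_mem _ U)
    refine ⟨((seq I A).X₂.obj.map g.op) t, ?_⟩
    rw [NatTrans.naturality_apply]
    exact congrArg _ ht
  have hdesc : ∀ {G : EtCoh.Ab X} (ψ : G ⟶ (seq I A).X₂), ψ ≫ (seq I A).g = 0 →
      ∀ (U : (X.Etale)ᵒᵖ) (x : G.obj.obj U), ∃ f : A ⟶ I.obj.obj U, coverπ A ≫ f = ψ.hom.app U x := by
    intro G ψ hψ U x
    have hk : kernel.ι (coverπ A) ≫ (ψ.hom.app U x) = 0 :=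
      ConcreteCategory.congr_hom (congrArg (fun q => q.hom.app U) hψ) x
    exact ⟨Abelian.epiDesc (coverπ A) _ hk, Abelian.comp_epiDesc _ _ hk⟩
  choose d hd using @hdesc
  refine { exact := ShortComplex.exact_of_f_is_kernel _ (KernelFork.IsLimit.ofι' _ _ fun {G} ψ hψ => ⟨⟨
    { app := fun U => AddCommGrpCat.ofHom
        { toFun := fun x => d ψ hψ U x
          map_zero' := ?_
          map_add' := ?_ }
      naturality := ?_ }⟩, ?_⟩) }
  · exact (cancel_epi (coverπ A)).1 ((hd ψ hψ U 0).trans ((map_zero (ψ.hom.app U).hom).trans comp_zero.symm))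
  · intro x y
    refine (cancel_epi (coverπ A)).1 ?_
    rw [hd, Preadditive.comp_add, hd, hd]
    exact map_add (ψ.hom.app U).hom x y
  · intro U V r
    refine AddCommGrpCat.hom_ext (AddMonoidHom.ext fun x => (cancel_epi (coverπ A)).1 ?_)
    show coverπ A ≫ d ψ hψ V (G.obj.map r x) = coverπ A ≫ d ψ hψ U x ≫ I.obj.map r
    rw [hd, ← Category.assoc, hd]
    exact NatTrans.naturality_apply ψ.hom r x
  · ext U x
    exact hd ψ hψ U x

/-- Cohomology of sheaves of homomorphisms into an injective sheaf vanishes. -/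
theorem subsingleton_H_homSh [Injective I] : ∀ (q : ℕ) (A : AddCommGrpCat.{u + 1}),
    Subsingleton (EtCoh.H X ((homSh A).obj I) (q + 1)) := by
  intro q
  induction q with
  | zero =>
    intro A
    refine subsingleton_of_forall_eq 0 fun z => ?_
    have hS := shortExact_seq I A
    haveI : Injective (seq I A).X₂ := injective_homSh_free I _
    obtain ⟨y, rfl⟩ := Ext.covariant_sequence_exact₁ _ hS z (Ext.eq_zero_of_injective _) (n₀ := 0) rfl
    obtain ⟨φ, rfl⟩ := (Ext.mk₀_bijective _ _).2 y
    let e := (EtCore.constAdj X).homEquiv (AddCommGrpCat.of (ULift.{u + 1} ℤ))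
    obtain ⟨t, ht⟩ := surjective_res I A (EtCoh.top X) ((e (seq I A).X₃ φ).hom (ULift.up 1))
    have h : φ = (e (seq I A).X₂).symm (AddCommGrpCat.ofHom
        ((zmultiplesHom _ t).comp (AddEquiv.ulift (α := ℤ)).toAddMonoidHom)) ≫ (seq I A).g := by
      refine (e _).injective ?_
      rw [Adjunction.homEquiv_naturality_right, Equiv.apply_symm_apply]
      refine AddCommGrpCat.hom_ext (AddMonoidHom.ext fun ⟨n⟩ => ?_)
      show (e (seq I A).X₃ φ).hom (ULift.up n) = (seq I A).g.hom.app _ (n • t)
      rw [map_zsmul, ht, show (ULift.up n : ULift.{u + 1} ℤ) = n • ULift.up 1 from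
        ULift.ext _ _ (mul_one n).symm, map_zsmul]
    rw [h, ← Ext.mk₀_comp_mk₀, Ext.comp_assoc_of_second_deg_zero, hS.comp_extClass, Ext.comp_zero]
  | succ q ih =>
    intro A
    refine subsingleton_of_forall_eq 0 fun z => ?_
    have hS := shortExact_seq I A
    haveI : Injective (seq I A).X₂ := injective_homSh_free I _
    obtain ⟨y, rfl⟩ := Ext.covariant_sequence_exact₁ _ hS z (Ext.eq_zero_of_injective _) (n₀ := q + 1) rfl
    haveI := ih (kernel (coverπ A))
    rw [Subsingleton.elim (α := EtCoh.H X ((homSh (kernel (coverπ A))).obj I) (q + 1)) y 0, Ext.zero_comp]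

end Groth.Agent.ModToAb24
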